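import Cfsg.Agent.H700.DM.Defs
import Cfsg.Agent.H400.BlockDefect
import Cfsg.Agent.H400.LieLocal
import Cfsg.Agent.Blocks.HeightZeroSection
import Cfsg.Agent.Blocks.ExistsModular
import Cfsg.Agent.PLocal.CoprimeLift
import Cfsg.Agent.TwoFusion.PResidual
import Cfsg.Agent.H990.PIrr
import Cfsg.Agent.Blocks.Knorr
import Cfsg.Agent.S0142
import Cfsg.Agent.S0138
import Cfsg.Agent.S0143

/-!
# DM01: prime power degrees of the quasisimple groups with `p`-local subgroups of characteristic `p`

* `mem_center_of_centralizes` : centralizers of the radical `p`-subgroups in a central extension by a `p'`-group;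
* `defect_of_locChar` : every `p`-block has defect `0` or full defect;
* `powDeg_of_locChar`, `powDeg_of_lie` : an irreducible degree which is a power of `p` is `1` or `|H|_p`.
-/

set_option autoImplicit false

namespace Cfsg.Agent.H579.DM.PowDeg

open Cfsg Subgroup
open Cfsg.Agent.BpLieP.Big (LocChar)
open Cfsg.Agent.H700.DM (PowDeg pt)

universe u

open scoped commutatorElement

/-- the `p`-elements over `O_p (N')`, for `N → N'` with central kernel, lie in `O_p (N)` -/
theorem mem_pCore_of_central {N N' : Type*} [Group N] [Finite N] [Group N'] {p : ℕ} [hp : Fact p.Prime] (f : N →* N')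
    (hf : Function.Surjective f) (hker : f.ker ≤ center N) {h : N} (hh : f h ∈ pCore p N')
    (hord : ∃ k : ℕ, orderOf h = p ^ k) : h ∈ pCore p N := by
  have : Finite N' := Finite.of_surjective f hf
  have hn' : (pCore p N').Normal := Lib.Cores.pCore_normal p
  set R : Subgroup N := (pCore p N').comap f with hR
  have hRn : R.Normal := hn'.comap _
  have hnil' : Group.IsNilpotent ↥(pCore p N') := (Lib.Cores.pCore_isPGroup (G := N') p).isNilpotent
  have hnil : Group.IsNilpotent ↥R := by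
    refine Subgroup.isNilpotent_of_ker_le_center (f.subgroupComap (pCore p N')) ?_
    intro x hx
    have hx1 : f x = 1 := congrArg Subtype.val hx
    rw [mem_center_iff]
    intro y
    exact Subtype.ext (mem_center_iff.1 (hker hx1) y)
  have hRh : h ∈ R := hh
  obtain ⟨S, hS⟩ := (H990.PIrr.zpowers_isPGroup (p := p) (x := (⟨h, hRh⟩ : ↥R)) (by
    rw [Subgroup.orderOf_mk]; exact hord)).exists_le_sylow
  have hSn : (S : Subgroup ↥R).Normal := ((Group.isNilpotent_of_finite_tfae (G := ↥R)).out 0 3 rfl rfl).mp hnil p hp S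
  have h1 : (⟨h, hRh⟩ : ↥R) ∈ pCore p ↥R := Lib.Cores.le_pCore hSn S.isPGroup' (hS (mem_zpowers _))
  have h2 := Lib.Cores.map_subtype_pCore p hRn
  have h3 : h ∈ (pCore p ↥R).map R.subtype := ⟨_, h1, rfl⟩
  rw [h2] at h3
  exact h3.2

/-- the centralizers of the radical `p`-subgroups in a central extension by a `p'`-group -/
theorem mem_center_of_centralizes {H : Type*} [Group H] [Finite H] {p : ℕ} [hp : Fact p.Prime]
    (hcop : ¬ p ∣ Nat.card (center H)) (hloc : LocChar p (H ⧸ center H)) {D : Subgroup H} (hDp : IsPGroup p D)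
    (hD1 : D ≠ ⊥) (hrad : (pCore p (normalizer (D : Set H))).map (normalizer (D : Set H)).subtype = D) {x : H}
    (hxD : ∀ d ∈ D, x * d = d * x) (hx : ¬ p ∣ orderOf x) : x ∈ center H := by
  have hcop' : (Nat.card (center H)).Coprime p := Nat.Coprime.symm ((Nat.Prime.coprime_iff_not_dvd hp.out).2 hcop)
  have hK1 : D.map (QuotientGroup.mk' (center H)) ≠ ⊥ := by
    intro h0
    rw [Subgroup.map_eq_bot_iff, QuotientGroup.ker_mk'] at h0
    apply hD1
    have h1 : Disjoint D (center H) := by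
      obtain ⟨n, hn⟩ := IsPGroup.iff_card.mp hDp
      refine disjoint_of_coprime_natCard ?_
      rw [hn]
      exact (hcop'.symm).pow_left n
    rw [eq_bot_iff]
    intro d hd
    exact h1.le_bot ⟨hd, h0 hd⟩
  have hC := hloc _ (hDp.map _) hK1
  have hmap := PLocal.CoprimeLift.map_normalizer_mk (center H) D hcop' hDp
  obtain ⟨π, hπ⟩ : ∃ π : H →* H ⧸ center H, π = QuotientGroup.mk' (center H) := ⟨_, rfl⟩
  rw [← hπ] at hC hmap
  set N : Subgroup H := normalizer (D : Set H) with hN
  set N' : Subgroup (H ⧸ center H) := normalizer (D.map π : Set (H ⧸ center H)) with hN'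
  have hle : ∀ n : ↥N, π n ∈ N' := by
    intro n
    rw [← hmap]
    exact ⟨_, n.2, rfl⟩
  obtain ⟨f, hf⟩ : ∃ f : ↥N →* ↥N', ∀ n : ↥N, (f n : H ⧸ center H) = π n :=
    ⟨(π.comp N.subtype).codRestrict N' hle, fun n => rfl⟩
  have hfs : Function.Surjective f := by
    rintro ⟨y, hy⟩
    have hy' := hy
    rw [← hmap] at hy'
    obtain ⟨n, hn, rfl⟩ := hy'
    exact ⟨⟨n, hn⟩, Subtype.ext (hf _)⟩
  have hπ1 : ∀ h : H, π h = 1 ↔ h ∈ center H := by
    intro h
    rw [hπ]
    exact QuotientGroup.eq_one_iff h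
  have hfk : f.ker ≤ center ↥N := by
    intro n hn
    rw [MonoidHom.mem_ker] at hn
    have h1 : π n = 1 := by rw [← hf, hn]; rfl
    rw [hπ1] at h1
    rw [mem_center_iff]
    intro y
    exact Subtype.ext (mem_center_iff.1 h1 y)
  have hxN : x ∈ N := by
    apply centralizer_le_normalizer
    rw [mem_centralizer_iff]
    intro d hd
    exact (hxD d hd).symm
  have hc : f ⟨x, hxN⟩ ∈ centralizer (pCore p ↥N' : Set ↥N') := by
    rw [mem_centralizer_iff]
    intro y hy
    obtain ⟨h, rfl⟩ := hfs y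
    obtain ⟨a, b, hab, ha, hb⟩ := TwoFusion.PResidual.exists_pPart_mul_pPrimePart p h
    have hfb : f (h ^ b) = 1 := by
      have h1 : f (h ^ b) ∈ pCore p ↥N' := by rw [map_zpow]; exact zpow_mem hy b
      obtain ⟨k, hk⟩ := (Lib.Cores.pCore_isPGroup (G := ↥N') p) ⟨_, h1⟩
      have hk' : (f (h ^ b)) ^ p ^ k = 1 := by
        have := congrArg Subtype.val hk
        simpa using this
      have h2 : orderOf (f (h ^ b)) ∣ p ^ k := orderOf_dvd_of_pow_eq_one hk'
      have h3 : orderOf (f (h ^ b)) ∣ orderOf (h ^ b) := orderOf_map_dvd _ _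
      have h4 : orderOf (f (h ^ b)) = 1 := Nat.eq_one_of_dvd_coprimes (hb.pow_right k) h3 h2
      rwa [orderOf_eq_one_iff] at h4
    have hfa : f h = f (h ^ a) := by
      conv_lhs => rw [hab]
      rw [map_mul, hfb, mul_one]
    have h5 : h ^ a ∈ pCore p ↥N := by
      apply mem_pCore_of_central f hfs hfk _ ha
      rw [← hfa]
      exact hy
    have h6 : ((h ^ a : ↥N) : H) ∈ D := by
      rw [← hrad]
      exact ⟨_, h5, rfl⟩
    rw [hfa, ← map_mul, ← map_mul]
    congr 1
    exact Subtype.ext (hxD _ h6).symm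
  have hc2 := hC hc
  obtain ⟨k, hk⟩ := (Lib.Cores.pCore_isPGroup (G := ↥N') p) ⟨_, hc2⟩
  have hk' : (f ⟨x, hxN⟩) ^ p ^ k = 1 := by
    have := congrArg Subtype.val hk
    simpa using this
  have h2 : orderOf (f ⟨x, hxN⟩) ∣ p ^ k := orderOf_dvd_of_pow_eq_one hk'
  have h3 : orderOf (f ⟨x, hxN⟩) ∣ orderOf x := by
    have h6 := orderOf_map_dvd f (⟨x, hxN⟩ : ↥N)
    have h7 : orderOf (⟨x, hxN⟩ : ↥N) = orderOf x := Subgroup.orderOf_mk _ _
    rwa [h7] at h6
  have hxc : (orderOf x).Coprime p := Nat.Coprime.symm ((Nat.Prime.coprime_iff_not_dvd hp.out).2 hx)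
  have h4 : orderOf (f ⟨x, hxN⟩) = 1 := Nat.eq_one_of_dvd_coprimes (hxc.pow_right k) h3 h2
  rw [orderOf_eq_one_iff] at h4
  rw [← hπ1, ← hf ⟨x, hxN⟩, h4]
  rfl

/-- every `p`-block has defect `0` or full defect -/
theorem defect_of_locChar {H : Type*} [Group H] [Finite H] {p : ℕ} [hp : Fact p.Prime]
    (hcop : ¬ p ∣ Nat.card (center H)) (hloc : LocChar p (H ⧸ center H))
    {M : Ideal AlgInt} (hM : IsPModular p M) {B : Set (IrrCharacter H)} (hB : IsPBlock M B) :
    blockDefect p B = 0 ∨ blockDefect p B = (Nat.card H).factorization p := by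
  obtain ⟨D, hD⟩ := H400.BlockDefect.exists_defectGroup hM hB
  have hDp := H400.BlockDefect.isPGroup_defectGroup hD
  refine H400.BlockDefect.defect_of hM hB hD ?_
  by_cases hD1 : D = ⊥
  · exact Or.inl hD1
  right
  have hrad := Cfsg.Agent.S0955.result p M hM B hB D hD
  obtain ⟨P, hP⟩ := hDp.exists_le_sylow
  obtain ⟨x, hx, ⟨S, hS⟩, hPD⟩ := Cfsg.Agent.S0956.result p M hM B hB D hD P hP
  have hxZ : x ∈ center H := by
    refine mem_center_of_centralizes hcop hloc hDp hD1 hrad ?_ hx
    intro y hy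
    rw [← hS] at hy
    obtain ⟨z, -, rfl⟩ := hy
    exact (mem_centralizer_iff.1 z.2 x rfl)
  refine ⟨P, ?_⟩
  rw [← hPD]
  have h4 : (P : Subgroup H).map (MulAut.conj x).toMonoidHom = P := by
    have h5 : ∀ y : H, (MulAut.conj x).toMonoidHom y = y := by
      intro y
      show x * y * x⁻¹ = y
      rw [← mem_center_iff.1 hxZ y, mul_assoc, mul_inv_cancel, mul_one]
    ext y
    constructor
    · rintro ⟨w, hw, rfl⟩
      rw [h5]
      exact hw
    · intro hy
      exact ⟨y, hy, h5 y⟩
  rw [h4, inf_idem]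

/-- an element represented by a scalar in a nonlinear irreducible representation of a quasisimple group is central -/
theorem mem_center_of_scalar {H : Type*} [Group H] [Finite H] (hq : IsQuasisimple H) {n : ℕ}
    (ρ : Representation ℂ H (Fin n → ℂ)) (hρ : ρ.IsIrreducible) (hn : n ≠ 1) {z : H}
    (hz : ∃ ω : ℂ, ρ z = ω • (LinearMap.id : (Fin n → ℂ) →ₗ[ℂ] (Fin n → ℂ))) : z ∈ center H := by
  by_contra hzc
  have hperf := hq.1
  have hsimp := hq.2
  let Z : Subgroup H :=
    { carrier := {x | ∃ ω : ℂ, ρ x = ω • (LinearMap.id : (Fin n → ℂ) →ₗ[ℂ] (Fin n → ℂ))}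
      mul_mem' := by
        rintro a b ⟨ω, hω⟩ ⟨η, hη⟩
        refine ⟨ω * η, ?_⟩
        rw [map_mul, hω, hη]
        refine LinearMap.ext fun v => ?_
        simp [smul_smul, mul_comm]
      one_mem' := ⟨1, by rw [map_one, one_smul]; rfl⟩
      inv_mem' := by
        rintro a ⟨ω, hω⟩
        refine ⟨ω⁻¹, ?_⟩
        have h1 : ρ a⁻¹ * ρ a = 1 := by rw [← map_mul, inv_mul_cancel, map_one]
        by_cases h0 : ω = 0
        · have : ρ a = 0 := by rw [hω, h0, zero_smul]
          rw [this, mul_zero] at h1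
          have h2 : ρ a⁻¹ = ρ a⁻¹ * 1 := (mul_one _).symm
          rw [h2, ← h1, mul_zero, h0]
          simp
        · refine LinearMap.ext fun v => ?_
          have h2 : ρ a⁻¹ (ρ a v) = v := by
            have := congrArg (fun f => f v) h1
            simpa using this
          rw [hω] at h2
          simp only [LinearMap.smul_apply, LinearMap.id_coe, id_eq, map_smul] at h2 ⊢
          rw [← h2, smul_smul, inv_mul_cancel₀ h0, one_smul, h2] }
  have hZn : Z.Normal := by
    refine ⟨fun a ha b => ?_⟩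
    obtain ⟨ω, hω⟩ := ha
    refine ⟨ω, ?_⟩
    have h1 : ρ b * ρ b⁻¹ = 1 := by rw [← map_mul, mul_inv_cancel, map_one]
    rw [map_mul, map_mul, hω]
    refine LinearMap.ext fun v => ?_
    have h2 : ρ b (ρ b⁻¹ v) = v := by
      have := congrArg (fun f => f v) h1
      simpa using this
    simp [h2]
  have hZmap : (Z.map (QuotientGroup.mk' (center H))).Normal := hZn.map _ (QuotientGroup.mk'_surjective _)
  have htop : Z ⊔ center H = ⊤ := by
    rcases hZmap.eq_bot_or_eq_top with h1 | h1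
    · exfalso
      apply hzc
      rw [Subgroup.map_eq_bot_iff, QuotientGroup.ker_mk'] at h1
      exact h1 hz
    · rw [eq_top_iff]
      intro h _
      have h2 : QuotientGroup.mk' (center H) h ∈ Z.map (QuotientGroup.mk' (center H)) := by rw [h1]; trivial
      obtain ⟨w, hw, hwe⟩ := h2
      have h3 : w⁻¹ * h ∈ center H := QuotientGroup.eq.1 hwe
      have h4 : h = w * (w⁻¹ * h) := by group
      rw [h4]
      exact mul_mem (mem_sup_left hw) (mem_sup_right h3)
  have hdec : ∀ h : H, ∃ w ∈ Z, ∃ c ∈ center H, h = w * c := by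
    intro h
    have h1 : h ∈ Z ⊔ center H := by rw [htop]; trivial
    obtain ⟨w, hw, c, hc, hwc⟩ := Subgroup.mem_sup_of_normal_right.1 h1
    exact ⟨w, hw, c, hc, hwc.symm⟩
  have hker : commutator H ≤ ρ.asGroupHom.ker := by
    rw [_root_.commutator_def, commutator_le]
    intro a _ b _
    obtain ⟨w, hw, c, hc, rfl⟩ := hdec a
    obtain ⟨w', hw', c', hc', rfl⟩ := hdec b
    obtain ⟨ω, hω⟩ := hw
    obtain ⟨η, hη⟩ := hw'
    have h1 : ⁅w * c, w' * c'⁆ = ⁅w, w'⁆ := by
      have e1 : ∀ x : H, c * x = x * c := fun x => (mem_center_iff.1 hc x).symm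
      have e2 : ∀ x : H, c' * x = x * c' := fun x => (mem_center_iff.1 hc' x).symm
      rw [commutatorElement_def, commutatorElement_def, mul_inv_rev, mul_inv_rev]
      calc w * c * (w' * c') * (c⁻¹ * w⁻¹) * (c'⁻¹ * w'⁻¹)
          = w * (c * (w' * c') * c⁻¹) * (w⁻¹ * c'⁻¹) * w'⁻¹ := by group
        _ = w * (w' * c') * (w⁻¹ * c'⁻¹) * w'⁻¹ := by rw [e1, mul_assoc (w' * c') c, mul_inv_cancel, mul_one]
        _ = w * w' * (c' * w⁻¹ * c'⁻¹) * w'⁻¹ := by group
        _ = w * w' * w⁻¹ * w'⁻¹ := by rw [e2, mul_assoc w⁻¹ c', mul_inv_cancel, mul_one]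
    rw [h1, MonoidHom.mem_ker]
    apply Units.ext
    have h2 : ρ (w * w') = ρ (w' * w) := by
      rw [map_mul, map_mul, hω, hη]
      ext v
      simp [mul_left_comm]
    have h3 : ρ ⁅w, w'⁆ = 1 := by
      have h4 : ρ ⁅w, w'⁆ * ρ (w' * w) = ρ (w' * w) := by
        rw [← map_mul]
        rw [show ⁅w, w'⁆ * (w' * w) = w * w' by rw [commutatorElement_def]; group]
        exact h2
      have h5 : ρ (w' * w) * ρ (w' * w)⁻¹ = 1 := by rw [← map_mul, mul_inv_cancel, map_one]
      calc ρ ⁅w, w'⁆ = ρ ⁅w, w'⁆ * (ρ (w' * w) * ρ (w' * w)⁻¹) := by rw [h5, mul_one]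
        _ = 1 := by rw [← mul_assoc, h4, h5]
    exact h3
  have hall : ∀ x, ρ x = 1 := by
    intro x
    have h1 : x ∈ ρ.asGroupHom.ker := by
      apply hker
      rw [hperf.commutator_eq_top]
      trivial
    exact congrArg Units.val (MonoidHom.mem_ker.1 h1)
  have h1 := Cfsg.Agent.S0143.finrank_eq_one_of_forall_eq_one ρ hall
  rw [Module.finrank_fin_fun] at h1
  exact hn h1

theorem powDeg_of_locChar {p : ℕ} [hp : Fact p.Prime] {H : Type u} [Group H] [Finite H] (hq : Cfsg.IsQuasisimple H)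
    (hcop : ¬ p ∣ Nat.card (Subgroup.center H)) (hloc : LocChar p (H ⧸ Subgroup.center H)) : PowDeg p H := by
  intro χ a ha
  by_contra hcon
  push Not at hcon
  obtain ⟨h1, h2⟩ := hcon
  obtain ⟨M, hM⟩ := Cfsg.Agent.Blocks.ExistsModular.exists_isPModular hp.out
  have hMp : M.IsPrime := Blocks.LocalRing.isPrime hM
  have hB : IsPBlock M (blockOf M (χ : H → ℂ)) := ⟨χ, rfl⟩
  have hχB : χ ∈ blockOf M (χ : H → ℂ) := Blocks.Basic.mem_blockOf_self χ
  -- the degree divides the order of the group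
  have hdvd : charDegree (χ : H → ℂ) ∣ Nat.card H := Cfsg.Agent.Blocks.Knorr.charDegree_dvd χ.2
  have hfac : (charDegree (χ : H → ℂ)).factorization p = a := by
    rw [ha, Nat.factorization_pow, hp.out.factorization]
    simp
  have hale : a ≤ (Nat.card H).factorization p := by
    rw [← hfac]
    exact (Nat.factorization_le_iff_dvd (Blocks.Basic.charDegree_pos χ.2).ne' Nat.card_pos.ne').2 hdvd p
  have ha0 : a ≠ 0 := by
    rintro rfl
    exact h1 (pow_zero p)
  have hlt : a < (Nat.card H).factorization p := by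
    refine lt_of_le_of_ne hale ?_
    intro h
    apply h2
    rw [h]
  have hle : sInf ((fun χ : IrrCharacter H => (charDegree (χ : H → ℂ)).factorization p) '' blockOf M (χ : H → ℂ)) ≤ a := by
    rw [← hfac]
    exact Nat.sInf_le ⟨χ, hχB, rfl⟩
  have hmem : sInf ((fun χ : IrrCharacter H => (charDegree (χ : H → ℂ)).factorization p) '' blockOf M (χ : H → ℂ)) ∈
      ((fun χ : IrrCharacter H => (charDegree (χ : H → ℂ)).factorization p) '' blockOf M (χ : H → ℂ)) :=
    Nat.sInf_mem ⟨_, χ, hχB, rfl⟩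
  obtain ⟨ψ, hψ, hψ0⟩ : ∃ ψ ∈ blockOf M (χ : H → ℂ), (charDegree (ψ : H → ℂ)).factorization p = 0 := by
    rcases defect_of_locChar hcop hloc hM hB with h0 | h0
    · exfalso
      rw [Blocks.Basic.blockDefect_def] at h0
      omega
    · obtain ⟨ψ, hψ, hψe⟩ := hmem
      refine ⟨ψ, hψ, ?_⟩
      rw [Blocks.Basic.blockDefect_def] at h0
      have h3 : sInf ((fun χ : IrrCharacter H => (charDegree (χ : H → ℂ)).factorization p) '' blockOf M (χ : H → ℂ)) =
        0 := by omega
      rw [← h3, ← hψe]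
  -- a central element of a Sylow `p`-subgroup
  obtain ⟨P⟩ : Nonempty (Sylow p H) := inferInstance
  have hPn : Nontrivial (P : Subgroup H) := by
    rw [← Finite.one_lt_card_iff_nontrivial, P.card_eq_multiplicity]
    exact Nat.one_lt_pow (by omega) hp.out.one_lt
  have hc : Nontrivial (center (P : Subgroup H)) := P.isPGroup'.center_nontrivial
  obtain ⟨z, hz⟩ := exists_ne (1 : center (P : Subgroup H))
  obtain ⟨y, hy⟩ : ∃ y : H, y = ((z : (P : Subgroup H)) : H) := ⟨_, rfl⟩
  have hy1 : y ≠ 1 := by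
    intro h
    apply hz
    ext
    rw [← hy, h]
    rfl
  have hyP : y ∈ (P : Subgroup H) := by rw [hy]; exact (z : (P : Subgroup H)).2
  have hPC : (P : Subgroup H) ≤ centralizer ({y} : Set H) := by
    intro x hx
    rw [mem_centralizer_singleton_iff]
    have := (mem_center_iff.1 z.2) ⟨x, hx⟩
    rw [hy]
    exact congrArg Subtype.val this
  have hidx : ¬ p ∣ (centralizer ({y} : Set H)).index := fun h =>
    P.not_dvd_index (h.trans (index_dvd_of_le hPC))
  have hyo : ∃ k : ℕ, orderOf y = p ^ k := by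
    obtain ⟨k, hk⟩ := P.isPGroup' ⟨y, hyP⟩
    have hk' : y ^ p ^ k = 1 := by
      have := congrArg Subtype.val hk
      simpa using this
    obtain ⟨j, -, hj⟩ := (Nat.dvd_prime_pow hp.out).1 (orderOf_dvd_of_pow_eq_one hk')
    exact ⟨j, hj⟩
  have hyZ : y ∉ center H := by
    intro h
    apply hcop
    obtain ⟨k, hk⟩ := hyo
    have h3 : orderOf y ∣ Nat.card (center H) := by
      have := orderOf_dvd_natCard (⟨y, h⟩ : center H)
      rwa [Subgroup.orderOf_mk] at this
    refine dvd_trans ?_ h3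
    rw [hk]
    refine dvd_pow_self p ?_
    rintro rfl
    rw [pow_zero, orderOf_eq_one_iff] at hk
    exact hy1 hk
  -- the character `χ` vanishes at `y`
  have hχy : (χ : H → ℂ) y = 0 := by
    obtain ⟨n, ρ, hρ, hρχ⟩ := χ.2
    have hdeg : charDegree (χ : H → ℂ) = n := by
      apply Blocks.Basic.charDegree_of_eq
      rw [← hρχ, Representation.char_one, Module.finrank_fin_fun]
    have hcopr : Nat.Coprime (Module.finrank ℂ (Fin n → ℂ)) (centralizer ({y} : Set H)).index := by
      rw [Module.finrank_fin_fun, ← hdeg, ha]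
      exact Nat.Coprime.pow_left a ((Nat.Prime.coprime_iff_not_dvd hp.out).2 hidx)
    rw [← hρχ]
    rcases Cfsg.Agent.S0142.result ρ y hcopr with h | h
    · exact h
    · exfalso
      refine hyZ (mem_center_of_scalar hq ρ hρ ?_ ((Cfsg.Agent.S0138.result ρ y).1 h))
      rintro rfl
      apply h1
      rw [← ha, hdeg]
  -- the central character of `ψ`
  have hpart : IsPPart p y y := ⟨1, mul_one y, Commute.one_right y, hyo, by
    rw [orderOf_one]; exact fun h => hp.out.one_lt.ne' (Nat.dvd_one.1 h)⟩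
  have h3 := CharactersDeep.ModCongr.memLocalIdeal_character_sub hM ψ.2 y y hpart
  rw [inv_mul_cancel] at h3
  have h4 : MemLocalIdeal M (centralChar (ψ : H → ℂ) y) := by
    have h5 := (hψ : SameBlock M (χ : H → ℂ) (ψ : H → ℂ)) y
    rw [Blocks.Basic.centralChar_def, hχy, mul_zero, zero_div, zero_sub] at h5
    exact Blocks.Local.memLocalIdeal_neg_iff.1 h5
  rw [Blocks.Basic.centralChar_def] at h4
  have h5 : MemLocalRing M ((ψ : H → ℂ) 1) := by
    rw [Blocks.Basic.irr_one_eq_charDegree ψ.2]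
    exact Blocks.Local.memLocalRing_natCast _
  have h6 := Blocks.Local.memLocalIdeal_mul_right h4 h5
  rw [div_mul_cancel₀ _ (Blocks.Basic.irr_one_ne_zero ψ.2)] at h6
  have h7 := Blocks.Local.memLocalIdeal_mul_left
    (Blocks.Local.memLocalRing_natCast (M := M) (centralizer ({y} : Set H)).index) h3
  have h8 := Blocks.Local.memLocalIdeal_sub h6 h7
  rw [← mul_sub, sub_sub_cancel, Blocks.Basic.irr_one_eq_charDegree ψ.2, ← Nat.cast_mul] at h8
  have h9 : p ∣ (centralizer ({y} : Set H)).index * charDegree (ψ : H → ℂ) :=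
    (Blocks.Local.memLocalIdeal_natCast_iff hM _).1 h8
  rcases hp.out.dvd_mul.1 h9 with h10 | h10
  · exact hidx h10
  · have h11 := (hp.out.dvd_iff_one_le_factorization (Blocks.Basic.charDegree_pos ψ.2).ne').1 h10
    omega

/-- **The degrees which are powers of `p` of the quasisimple groups of Lie type of characteristic `p`** (with a centre of
order prime to `p`), except the Suzuki groups. -/
theorem powDeg_of_lie {p : ℕ} [hp : Fact p.Prime] {H : Type u} [Group H] [Finite H] (hq : Cfsg.IsQuasisimple H)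
    (hcop : ¬ p ∣ Nat.card (Subgroup.center H)) (hlie : Cfsg.IsLieTypeChar p (H ⧸ Subgroup.center H))
    (hsz : ¬ (p = 2 ∧ Lie.IsoSuzuki (H ⧸ Subgroup.center H))) : PowDeg p H :=
  powDeg_of_locChar hq hcop (H400.LieLocal.local_char_of_lie hlie hsz)

end Cfsg.Agent.H579.DM.PowDeg
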